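import Mathlib

/-!
# Recognising `SL(2,3)`

A group of order 24 with a normal subgroup of order 8 having a unique involution, on whose
quotient an element of order 3 acts non-trivially, is isomorphic to `SL(2,3)`.
-/

set_option autoImplicit false

namespace Cfsg.Agent.Lib.Huppert

/-- The relations `a⁴ = b³ = 1, a * aᵇ = aᵇᵇ, (aᵇ)² = a²`. -/
structure QCRel {Y : Type*} [Group Y] (a b : Y) : Prop where
  a4 : a ^ 4 = 1
  b3 : b ^ 3 = 1
  hk : a * (b * a * b⁻¹) = b * (b * a * b⁻¹) * b⁻¹
  hj : (b * a * b⁻¹) ^ 2 = a ^ 2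

section Bound

variable {Y : Type*} [Group Y] {a b : Y}

/-- The subgroup generated is small. -/
theorem QCRel.closure_card_le (h : QCRel a b) : Nat.card (Subgroup.closure ({a, b} : Set Y)) ≤ 24 := by
  classical
  have hbinv : b⁻¹ = b * b := by
    have := h.b3
    rw [pow_three] at this
    exact inv_eq_of_mul_eq_one_right this
  have hb3 : b * (b * b) = 1 := by
    have := h.b3
    rwa [pow_three] at this
  obtain ⟨j, hj'⟩ : ∃ j, j = b * a * b⁻¹ := ⟨_, rfl⟩
  obtain ⟨k, hk'⟩ : ∃ k, k = b * j * b⁻¹ := ⟨_, rfl⟩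
  obtain ⟨z, hz'⟩ : ∃ z, z = a ^ 2 := ⟨_, rfl⟩
  have hak : a * j = k := by
    rw [hk', hj']
    exact h.hk
  have hjj : j * j = z := by
    rw [← pow_two, hj', h.hj, hz']
  have haa : a * a = z := by rw [hz', pow_two]
  have hbk : b * k * b⁻¹ = a := by
    rw [hk', hj']
    have : b * (b * (b * a * b⁻¹) * b⁻¹) * b⁻¹ = (b * (b * b)) * a * (b * (b * b))⁻¹ := by group
    rw [this, hb3]
    group
  have hjk : j * k = a := by
    have e : b * (a * j) * b⁻¹ = (b * a * b⁻¹) * (b * j * b⁻¹) := by group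
    rw [hak, hbk, ← hj', ← hk'] at e
    exact e.symm
  have hka : k * a = j := by
    have e : b * (j * k) * b⁻¹ = (b * j * b⁻¹) * (b * k * b⁻¹) := by group
    rw [hjk, hbk, ← hk', ← hj'] at e
    exact e.symm
  have hbz : b * z * b⁻¹ = z := by
    rw [← haa]
    have e : b * (a * a) * b⁻¹ = (b * a * b⁻¹) * (b * a * b⁻¹) := by group
    rw [e, ← hj', hjj, haa]
  have hkk : k * k = z := by
    have e : k * k = b * (j * j) * b⁻¹ := by
      rw [hk']
      group
    rw [e, hjj, hbz]
  have hzz : z * z = 1 := by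
    rw [hz', ← pow_add]
    exact h.a4
  have hza : z * a = a * z := by rw [hz']; group
  have hzj : z * j = j * z := by rw [← hjj]; group
  have hzk : z * k = k * z := by rw [← hkk]; group
  have hbza : b * (z * a) * b⁻¹ = z * j := by
    have : b * (z * a) * b⁻¹ = (b * z * b⁻¹) * (b * a * b⁻¹) := by group
    rw [this, hbz, ← hj']
  have hbzj : b * (z * j) * b⁻¹ = z * k := by
    have : b * (z * j) * b⁻¹ = (b * z * b⁻¹) * (b * j * b⁻¹) := by group
    rw [this, hbz, ← hk']
  have hbzk : b * (z * k) * b⁻¹ = z * a := by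
    have : b * (z * k) * b⁻¹ = (b * z * b⁻¹) * (b * k * b⁻¹) := by group
    rw [this, hbz, hbk]
  have hak' : a * k = z * j := by
    rw [← hak, ← mul_assoc, haa]
  let Q : Finset Y := {1, z, a, z * a, j, z * j, k, z * k}
  have hQa : ∀ x ∈ Q, a * x ∈ Q := by
    intro x hx
    simp only [Q, Finset.mem_insert, Finset.mem_singleton] at hx ⊢
    rcases hx with rfl | rfl | rfl | rfl | rfl | rfl | rfl | rfl
    · simp
    · rw [← hza]; simp
    · rw [haa]; simp
    · have : a * (z * a) = 1 := by
        rw [← mul_assoc, ← hza, mul_assoc, haa, hzz]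
      simp [this]
    · rw [hak]; simp
    · have : a * (z * j) = z * k := by
        rw [← mul_assoc, ← hza, mul_assoc, hak]
      simp [this]
    · simp [hak']
    · have : a * (z * k) = j := by
        rw [← mul_assoc, ← hza, mul_assoc, hak', ← mul_assoc, hzz, one_mul]
      simp [this]
  have hQb : ∀ x ∈ Q, b * x * b⁻¹ ∈ Q := by
    intro x hx
    simp only [Q, Finset.mem_insert, Finset.mem_singleton] at hx ⊢
    rcases hx with rfl | rfl | rfl | rfl | rfl | rfl | rfl | rfl
    · simp
    · simp [hbz]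
    · simp [← hj']
    · rw [hbza]; simp
    · simp [← hk']
    · rw [hbzj]; simp
    · rw [hbk]; simp
    · rw [hbzk]; simp
  have hQ1 : (1 : Y) ∈ Q := by simp [Q]
  have hQcard : Q.card ≤ 8 := by
    simp only [Q]
    repeat refine (Finset.card_insert_le _ _).trans (Nat.succ_le_succ ?_)
    simp
  clear_value Q
  obtain ⟨W, hWcard, hWmem, hWmem'⟩ : ∃ W : Finset Y, W.card ≤ 24 ∧
      (∀ x ∈ Q, ∀ f, f < 3 → x * b ^ f ∈ W) ∧ (∀ y ∈ W, ∃ x ∈ Q, ∃ f, f < 3 ∧ y = x * b ^ f) := by
    refine ⟨(Q ×ˢ Finset.range 3).image (fun p => p.1 * b ^ p.2), ?_, ?_, ?_⟩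
    · calc _ ≤ (Q ×ˢ Finset.range 3).card := Finset.card_image_le
        _ = Q.card * 3 := by rw [Finset.card_product, Finset.card_range]
        _ ≤ 8 * 3 := Nat.mul_le_mul_right _ hQcard
    · intro x hx f hf
      exact Finset.mem_image.2 ⟨(x, f), Finset.mem_product.2 ⟨hx, Finset.mem_range.2 hf⟩, rfl⟩
    · intro y hy
      obtain ⟨⟨x, f⟩, hp, rfl⟩ := Finset.mem_image.1 hy
      obtain ⟨hx, hf⟩ := Finset.mem_product.1 hp
      exact ⟨x, hx, f, Finset.mem_range.1 hf, rfl⟩
  have hWa : ∀ y ∈ W, a * y ∈ W := by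
    intro y hy
    obtain ⟨x, hx, f, hf, rfl⟩ := hWmem' y hy
    rw [← mul_assoc]
    exact hWmem _ (hQa x hx) f hf
  have hWb : ∀ y ∈ W, b * y ∈ W := by
    intro y hy
    obtain ⟨x, hx, f, hf, rfl⟩ := hWmem' y hy
    have e : b * (x * b ^ f) = (b * x * b⁻¹) * b ^ (f + 1) := by group
    rw [e]
    by_cases h3 : f + 1 = 3
    · have e2 : b * x * b⁻¹ * b ^ (f + 1) = (b * x * b⁻¹) * b ^ 0 := by
        rw [h3, h.b3, pow_zero]
      rw [e2]
      exact hWmem _ (hQb x hx) 0 (by omega)
    · exact hWmem _ (hQb x hx) _ (by omega)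
  have hsub : ∀ y ∈ Subgroup.closure ({a, b} : Set Y), y ∈ W := by
    intro y hy
    induction hy using Subgroup.closure_induction_left with
    | one =>
      have := hWmem 1 hQ1 0 (by omega)
      simpa using this
    | mul_left x hx y _ ih =>
      rcases hx with rfl | rfl
      · exact hWa _ ih
      · exact hWb _ ih
    | inv_mul_cancel x hx y _ ih =>
      rcases hx with rfl | rfl
      · have e : x⁻¹ = x * (x * x) := by
          have := h.a4
          apply inv_eq_of_mul_eq_one_right
          rw [← this]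
          simp only [pow_succ, pow_zero, one_mul, mul_assoc]
        rw [e, mul_assoc, mul_assoc]
        exact hWa _ (hWa _ (hWa _ ih))
      · rw [hbinv, mul_assoc]
        exact hWb _ (hWb _ ih)
  have hcard : Nat.card (Subgroup.closure ({a, b} : Set Y)) ≤ Nat.card W :=
    Nat.card_le_card_of_injective (fun y => (⟨y.1, hsub y.1 y.2⟩ : W))
      (fun x y hxy => Subtype.ext (congrArg (fun w : W => w.1) hxy))
  have hW' : Nat.card W = W.card := by rw [Nat.card_eq_fintype_card, Fintype.card_coe]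
  rw [hW'] at hcard
  exact hcard.trans hWcard

end Bound

theorem bijective_of_map_eq_top {X H : Type*} [Group X] [Group H] [Finite H] [Finite X] (f : X →* H)
    (S : Subgroup X) (hcard : Nat.card S ≤ 24) (hH : Nat.card H = 24) (himg : S.map f = ⊤) :
    Function.Bijective (f.comp S.subtype) := by
  have hs : Function.Surjective (f.comp S.subtype) := by
    intro y
    have : y ∈ S.map f := by
      rw [himg]
      trivial
    obtain ⟨x, hx, rfl⟩ := this
    exact ⟨⟨x, hx⟩, rfl⟩
  exact Function.Surjective.bijective_of_nat_card_le hs (by rw [hH]; exact hcard)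

/-- Two groups of order 24 generated by elements satisfying the relations are isomorphic. -/
theorem iso_of_QCRel {H₁ H₂ : Type*} [Group H₁] [Group H₂] [Finite H₁] [Finite H₂]
    (h1 : Nat.card H₁ = 24) (h2 : Nat.card H₂ = 24) {a₁ b₁ : H₁} {a₂ b₂ : H₂}
    (q1 : QCRel a₁ b₁) (q2 : QCRel a₂ b₂)
    (g1 : Subgroup.closure ({a₁, b₁} : Set H₁) = ⊤) (g2 : Subgroup.closure ({a₂, b₂} : Set H₂) = ⊤) :
    Nonempty (H₁ ≃* H₂) := by
  classical
  let a : H₁ × H₂ := (a₁, a₂)
  let b : H₁ × H₂ := (b₁, b₂)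
  have q : QCRel a b := by
    refine ⟨Prod.ext q1.a4 q2.a4, Prod.ext q1.b3 q2.b3, Prod.ext q1.hk q2.hk, Prod.ext q1.hj q2.hj⟩
  set S := Subgroup.closure ({a, b} : Set (H₁ × H₂)) with hS
  have hcard : Nat.card S ≤ 24 := q.closure_card_le
  have himg1 : S.map (MonoidHom.fst H₁ H₂) = ⊤ := by
    rw [hS, MonoidHom.map_closure, ← g1]
    congr 1
    ext x
    simp [a, b, eq_comm]
  have himg2 : S.map (MonoidHom.snd H₁ H₂) = ⊤ := by
    rw [hS, MonoidHom.map_closure, ← g2]
    congr 1
    ext x
    simp [a, b, eq_comm]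
  have e1 := MulEquiv.ofBijective _ (bijective_of_map_eq_top (MonoidHom.fst H₁ H₂) S hcard h1 himg1)
  have e2 := MulEquiv.ofBijective _ (bijective_of_map_eq_top (MonoidHom.snd H₁ H₂) S hcard h2 himg2)
  exact ⟨e1.symm.trans e2⟩

abbrev SL23' := Matrix.SpecialLinearGroup (Fin 2) (ZMod 3)

def sl23a : SL23' := ⟨!![0, 1; 2, 0], by decide⟩
def sl23b : SL23' := ⟨!![1, 0; 1, 1], by decide⟩

set_option maxRecDepth 100000 in
theorem sl23_card : Nat.card SL23' = 24 := by
  rw [Nat.card_eq_fintype_card]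
  decide

set_option maxRecDepth 100000 in
theorem sl23_rel : QCRel sl23a sl23b := by
  refine ⟨?_, ?_, ?_, ?_⟩ <;> decide

set_option maxRecDepth 200000 in
theorem sl23_word : ∀ x : SL23', ∃ i : Fin 4, ∃ j : Fin 4, ∃ k : Fin 3,
    x = sl23a ^ (i : ℕ) * (sl23b * sl23a * sl23b⁻¹) ^ (j : ℕ) * sl23b ^ (k : ℕ) := by
  decide

theorem sl23_gen : Subgroup.closure ({sl23a, sl23b} : Set SL23') = ⊤ := by
  rw [eq_top_iff]
  intro x _
  obtain ⟨i, j, k, rfl⟩ := sl23_word x
  have ha : sl23a ∈ Subgroup.closure ({sl23a, sl23b} : Set SL23') := Subgroup.subset_closure (by simp)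
  have hb : sl23b ∈ Subgroup.closure ({sl23a, sl23b} : Set SL23') := Subgroup.subset_closure (by simp)
  exact mul_mem (mul_mem (pow_mem ha _) (pow_mem (mul_mem (mul_mem hb ha) (inv_mem hb)) _))
    (pow_mem hb _)

/-- A group of order 24 generated by elements with the relations is `SL(2,3)`. -/
theorem iso_sl23_of_QCRel {H : Type*} [Group H] [Finite H] (h : Nat.card H = 24) {a b : H}
    (q : QCRel a b) (g : Subgroup.closure ({a, b} : Set H) = ⊤) : Nonempty (H ≃* SL23') :=
  iso_of_QCRel h sl23_card q sl23_rel g sl23_gen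

/-- The recognition theorem. -/
theorem iso_sl23_of_structure {H : Type*} [Group H] [Finite H] (hH : Nat.card H = 24)
    (Q : Subgroup H) (hQn : Q.Normal) (hQ8 : Nat.card Q = 8) {z : H} (hzQ : z ∈ Q) (hz1 : z ≠ 1)
    (hz : z * z = 1) (hsq : ∀ t ∈ Q, t ≠ 1 → t ≠ z → t * t = z) {c a : H} (hc3 : c ^ 3 = 1)
    (hc1 : c ≠ 1) (ha : a ∈ Q) (ha1 : a ≠ 1) (haz : a ≠ z) (h1 : c * a * c⁻¹ ≠ a)
    (h2 : c * a * c⁻¹ ≠ z * a) : Nonempty (H ≃* SL23') := by
  classical
  haveI : Fact (Nat.Prime 3) := ⟨Nat.prime_three⟩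
  haveI : Fintype H := Fintype.ofFinite H
  have hconjQ : ∀ t ∈ Q, c * t * c⁻¹ ∈ Q := fun t ht => hQn.conj_mem t ht c
  -- `z` is fixed by `c`
  have hzc : c * z * c⁻¹ = z := by
    by_contra hne
    have h3 : c * z * c⁻¹ ≠ 1 := by
      intro h4
      apply hz1
      have := congrArg (fun x => c⁻¹ * x * c) h4
      simpa [mul_assoc] using this
    have h4 := hsq _ (hconjQ z hzQ) h3 hne
    have h5 : c * z * c⁻¹ * (c * z * c⁻¹) = c * (z * z) * c⁻¹ := by group
    rw [h5, hz] at h4
    apply hz1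
    rw [← h4]
    group
  -- `z` commutes with `Q`
  have hzt : ∀ t ∈ Q, t * z = z * t := by
    intro t ht
    by_cases ht1 : t = 1
    · simp [ht1]
    by_cases ht2 : t = z
    · rw [ht2]
    · rw [← hsq t ht ht1 ht2]
      group
  have hcz : c * z = z * c := by
    have : c * z = c * z * c⁻¹ * c := by group
    rw [this, hzc]
  have hzi : z⁻¹ = z := inv_eq_of_mul_eq_one_right hz
  obtain ⟨j, hj⟩ : ∃ j, j = c * a * c⁻¹ := ⟨_, rfl⟩
  obtain ⟨k, hk⟩ : ∃ k, k = c * j * c⁻¹ := ⟨_, rfl⟩
  rw [← hj] at h1 h2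
  have hjQ : j ∈ Q := hj ▸ hconjQ a ha
  have hkQ : k ∈ Q := hk ▸ hconjQ j hjQ
  have hinj : ∀ {x y : H}, c * x * c⁻¹ = c * y * c⁻¹ → x = y := by
    intro x y h
    have := congrArg (fun w => c⁻¹ * w * c) h
    simpa [mul_assoc] using this
  have hconjz : ∀ x : H, c * (z * x) * c⁻¹ = z * (c * x * c⁻¹) := by
    intro x
    rw [← mul_assoc, hcz]
    group
  have hj1 : j ≠ 1 := by
    intro h
    apply ha1
    apply hinj
    rw [← hj, h]
    group
  have hjz : j ≠ z := by
    intro h
    apply haz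
    apply hinj
    rw [← hj, h, hzc]
  have hk1 : k ≠ 1 := by
    intro h
    apply hj1
    apply hinj
    rw [← hk, h]
    group
  have hkz : k ≠ z := by
    intro h
    apply hjz
    apply hinj
    rw [← hk, h, hzc]
  have hkj : k ≠ j := by
    intro h
    apply h1
    apply hinj
    rw [← hk, ← hj, h]
  have hkzj : k ≠ z * j := by
    intro h
    apply h2
    apply hinj
    rw [← hk, hconjz, ← hj, h]
  have hck : c * k * c⁻¹ = a := by
    rw [hk, hj]
    have e : c * (c * (c * a * c⁻¹) * c⁻¹) * c⁻¹ = c ^ 3 * a * (c ^ 3)⁻¹ := by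
      simp only [pow_succ, pow_zero, one_mul]
      group
    rw [e, hc3]
    group
  have hka : k ≠ a := by
    intro h
    apply h1
    calc j = c * a * c⁻¹ := hj
      _ = c * k * c⁻¹ := by rw [h]
      _ = a := hck
  have hkza : k ≠ z * a := by
    intro h
    apply h2
    have h3 : a = z * j := by
      rw [← hck, h, hconjz, ← hj]
    have h4 : j = z * a := by
      rw [h3, ← mul_assoc, hz, one_mul]
    exact h4
  have haa : a * a = z := hsq a ha ha1 haz
  have hjj : j * j = z := hsq j hjQ hj1 hjz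
  have hkk : k * k = z := hsq k hkQ hk1 hkz
  -- the list of elements
  let X : Finset H := {1, a, j, k}
  have hXsub : ∀ x ∈ X, x ∈ Q := by
    intro x hx
    simp only [X, Finset.mem_insert, Finset.mem_singleton] at hx
    rcases hx with rfl | rfl | rfl | rfl
    · exact one_mem _
    · exact ha
    · exact hjQ
    · exact hkQ
  have hXcard : X.card = 4 := by
    simp only [X]
    rw [Finset.card_insert_of_notMem, Finset.card_insert_of_notMem, Finset.card_insert_of_notMem,
      Finset.card_singleton]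
    · simp [hkj.symm]
    · simp [hka.symm, h1.symm]
    · simp [ha1.symm, hj1.symm, hk1.symm]
  have hswap : ∀ {u v : H}, v = z * u → u = z * v := by
    intro u v h
    rw [h, ← mul_assoc, hz, one_mul]
  have hself : ∀ u : H, u ≠ z * u := by
    intro u h
    exact hz1 (mul_eq_right.1 h.symm)
  have hone : ∀ {u : H}, u ≠ z → 1 ≠ z * u := by
    intro u hu h
    apply hu
    have := hswap h
    simpa using this
  have hmod : ∀ x ∈ X, ∀ y ∈ X, y ≠ z * x := by
    intro x hx y hy
    simp only [X, Finset.mem_insert, Finset.mem_singleton] at hx hy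
    rcases hx with rfl | rfl | rfl | rfl <;> rcases hy with rfl | rfl | rfl | rfl
    · simpa using hz1.symm
    · simpa using haz
    · simpa using hjz
    · simpa using hkz
    · exact hone haz
    · exact hself _
    · exact h2
    · exact hkza
    · exact hone hjz
    · exact fun h => h2 (hswap h)
    · exact hself _
    · exact hkzj
    · exact hone hkz
    · exact fun h => hkza (hswap h)
    · exact fun h => hkzj (hswap h)
    · exact hself _
  let L : Finset H := X ∪ X.image (fun x => z * x)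
  have hLcard : L.card = 8 := by
    have hd : Disjoint X (X.image (fun x => z * x)) := by
      rw [Finset.disjoint_left]
      intro y hy hy2
      obtain ⟨x, hx, rfl⟩ := Finset.mem_image.1 hy2
      exact hmod x hx _ hy rfl
    rw [Finset.card_union_of_disjoint hd, Finset.card_image_of_injective _ (mul_right_injective z),
      hXcard]
  let F : Finset H := Finset.univ.filter (· ∈ Q)
  have hFcard : F.card = 8 := by
    rw [← hQ8, Nat.card_eq_fintype_card]
    exact (Fintype.card_of_subtype (p := (· ∈ Q)) F (by simp [F])).symm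
  have hLF : L ⊆ F := by
    intro x hx
    refine Finset.mem_filter.2 ⟨Finset.mem_univ _, ?_⟩
    rcases Finset.mem_union.1 hx with h3 | h3
    · exact hXsub x h3
    · obtain ⟨y, hy, rfl⟩ := Finset.mem_image.1 h3
      exact mul_mem hzQ (hXsub y hy)
  have hLeq : L = F := Finset.eq_of_subset_of_card_le hLF (by rw [hFcard, hLcard])
  have hQL : ∀ t ∈ Q, t ∈ L := by
    intro t ht
    rw [hLeq]
    exact Finset.mem_filter.2 ⟨Finset.mem_univ _, ht⟩
  have hQcases : ∀ t ∈ Q, t = 1 ∨ t = a ∨ t = j ∨ t = k ∨ t = z ∨ t = z * a ∨ t = z * j ∨ t = z * k := by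
    intro t ht
    rcases Finset.mem_union.1 (hQL t ht) with h3 | h3
    · simp only [X, Finset.mem_insert, Finset.mem_singleton] at h3
      rcases h3 with h3 | h3 | h3 | h3 <;> simp [h3]
    · obtain ⟨y, hy, rfl⟩ := Finset.mem_image.1 h3
      simp only [X, Finset.mem_insert, Finset.mem_singleton] at hy
      rcases hy with rfl | rfl | rfl | rfl <;> simp
  -- generation
  have hgen : ∀ a₀ : H, a₀ * a₀ = z → (a = a₀ ∨ a = z * a₀) →
      Subgroup.closure ({a₀, c} : Set H) = ⊤ := by
    intro a₀ ha₀ hcase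
    set Y := Subgroup.closure ({a₀, c} : Set H) with hY
    have h3 : a₀ ∈ Y := Subgroup.subset_closure (by simp)
    have h4 : c ∈ Y := Subgroup.subset_closure (by simp)
    have hzY : z ∈ Y := ha₀ ▸ mul_mem h3 h3
    have haY : a ∈ Y := by
      rcases hcase with h5 | h5
      · rw [h5]; exact h3
      · rw [h5]; exact mul_mem hzY h3
    have hjY : j ∈ Y := hj ▸ mul_mem (mul_mem h4 haY) (inv_mem h4)
    have hkY : k ∈ Y := hk ▸ mul_mem (mul_mem h4 hjY) (inv_mem h4)
    have hQY : Q ≤ Y := by
      intro t ht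
      rcases hQcases t ht with rfl | rfl | rfl | rfl | rfl | rfl | rfl | rfl
      · exact one_mem _
      · exact haY
      · exact hjY
      · exact hkY
      · exact hzY
      · exact mul_mem hzY haY
      · exact mul_mem hzY hjY
      · exact mul_mem hzY hkY
    have h8 : 8 ∣ Nat.card Y := hQ8 ▸ Subgroup.card_dvd_of_le hQY
    have h3' : 3 ∣ Nat.card Y := by
      have h5 : orderOf c = 3 := orderOf_eq_prime hc3 hc1
      have h6 : orderOf (⟨c, h4⟩ : Y) = 3 := by
        rw [Subgroup.orderOf_mk, h5]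
      rw [← h6]
      exact orderOf_dvd_natCard _
    have h24 : 24 ∣ Nat.card Y := by
      have : Nat.Coprime 8 3 := by norm_num
      exact this.mul_dvd_of_dvd_of_dvd h8 h3'
    have hle : Nat.card Y ≤ 24 := by
      rw [← hH]
      exact Subgroup.card_le_card_group _
    have heq : Nat.card Y = Nat.card H := by
      rw [hH]
      exact le_antisymm hle (Nat.le_of_dvd Nat.card_pos h24)
    exact Subgroup.eq_top_of_card_eq _ heq
  -- the product
  have haj := hQcases (a * j) (mul_mem ha hjQ)
  have hza : z * a = a * z := (hzt a ha).symm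
  have hzj : z * j = j * z := (hzt j hjQ).symm
  have hz4 : ∀ {x : H}, x * x = z → x ^ 4 = 1 := by
    intro x hx
    have : x ^ 4 = (x * x) * (x * x) := by simp only [pow_succ, pow_zero, one_mul, mul_assoc]
    rw [this, hx, hz]
  have hcase : a * j = k ∨ a * j = z * k := by
    rcases haj with h3 | h3 | h3 | h3 | h3 | h3 | h3 | h3
    · exfalso
      apply h2
      apply mul_left_cancel (a := a)
      rw [h3, ← mul_assoc, ← hza, mul_assoc, haa, hz]
    · exfalso
      exact hj1 (mul_eq_left.1 h3)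
    · exfalso
      exact ha1 (mul_eq_right.1 h3)
    · exact Or.inl h3
    · exfalso
      apply h1
      apply mul_left_cancel (a := a)
      rw [h3, haa]
    · exfalso
      apply hjz
      apply mul_left_cancel (a := a)
      rw [h3, hza]
    · exfalso
      exact haz (mul_right_cancel h3)
    · exact Or.inr h3
  rcases hcase with h3 | h3
  · refine iso_sl23_of_QCRel hH (a := a) (b := c) ⟨hz4 haa, hc3, ?_, ?_⟩ (hgen a haa (Or.inl rfl))
    · rw [← hj, h3, hk]
    · rw [← hj, pow_two, pow_two, hjj, haa]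
  · have ha₀ : (z * a) * (z * a) = z := by
      have : (z * a) * (z * a) = (z * z) * (a * a) := by
        rw [mul_assoc z a, ← mul_assoc a z, ← hza, mul_assoc z a a, ← mul_assoc z z]
      rw [this, hz, one_mul, haa]
    have hcj : c * (z * a) * c⁻¹ = z * j := by
      rw [hconjz, hj]
    refine iso_sl23_of_QCRel hH (a := z * a) (b := c) ⟨hz4 ha₀, hc3, ?_, ?_⟩
      (hgen (z * a) ha₀ (Or.inr (hswap rfl)))
    · rw [hcj, hconjz, ← hk, ← h3]
      calc z * a * (z * j) = (z * (a * z)) * j := by group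
        _ = (z * (z * a)) * j := by rw [← hza]
        _ = (z * z) * (a * j) := by group
        _ = a * j := by rw [hz, one_mul]
    · rw [hcj, pow_two, pow_two, ha₀]
      have : (z * j) * (z * j) = (z * z) * (j * j) := by
        rw [mul_assoc z j, ← mul_assoc j z, ← hzj, mul_assoc z j j, ← mul_assoc z z]
      rw [this, hz, one_mul, hjj]

end Cfsg.Agent.Lib.Huppert
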